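import Cfsg.Agent.FrobeniusSystem.Setup
import Cfsg.Agent.CITGroups.CNFrame
import Cfsg.Agent.CITGroups.Main
import Cfsg.Agent.SuzukiUnique.Zassenhaus
import Cfsg.Agent.Classical.Misc.SmallPSL
import Cfsg.Agent.S0252
import Cfsg.Agent.Chars.Burnside

/-!
The simple group carrying such a frame is a Zassenhaus group with a kernel of two-power order, hence a linear
group in characteristic two or a Suzuki group.
-/

set_option autoImplicit false
set_option linter.unusedSectionVars false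
set_option linter.style.haveILetI false

namespace Cfsg.Lib.FrobeniusSystem

open Subgroup Cfsg.Lib.CITGroups Cfsg.Lib.PrimePowerOrders
open scoped Pointwise

universe u

variable {G : Type u} [Group G] [Finite G]

theorem two_part_eq {a k x y : ℕ} (hx : Odd x) (hy : Odd y) (h : 2 ^ a * x = 2 ^ k * y) : a = k ∧ x = y := by
  have key : ∀ {a k x y : ℕ}, Odd x → 2 ^ a * x = 2 ^ k * y → k ≤ a := fun {a k x y} hx h => by
    by_contra hlt
    obtain ⟨j, rfl⟩ := Nat.exists_eq_add_of_le (show a + 1 ≤ k by omega)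
    rw [pow_add, pow_succ, mul_assoc, mul_assoc] at h
    exact (Nat.not_even_iff_odd.2 hx) ⟨2 ^ j * y, by
      have := Nat.eq_of_mul_eq_mul_left (pow_pos two_pos a) h
      omega⟩
  obtain rfl := le_antisymm (key hy h.symm) (key hx h)
  exact ⟨rfl, Nat.eq_of_mul_eq_mul_left (pow_pos two_pos a) h⟩

/-- a field of odd order among those of the linear CIT groups can only have five elements -/
theorem five_of_order {q a e : ℕ} (hodd : Odd q) (hq : q = 9 ∨ (∃ n, q = 2 ^ n) ∨
      (q.Prime ∧ ∃ k, q = 2 ^ k + 1 ∨ q + 1 = 2 ^ k))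
    (h5 : 5 ≤ q) (ha : 1 ≤ a) (he : e ∣ 2 ^ a - 1) (hG : 2 * ((2 ^ a + 1) * (2 ^ a * e)) = q * (q ^ 2 - 1)) :
    q = 5 := by
  have hA : Odd ((2 ^ a + 1) * e) := by
    have h2 : 2 ∣ 2 ^ a := dvd_pow_self 2 (by omega)
    have hm : Odd (2 ^ a - 1) := by
      rw [Nat.odd_iff]; have := Nat.one_le_two_pow (n := a); omega
    exact Odd.mul (Nat.odd_iff.2 (by omega)) (hm.of_dvd_nat he)
  have hG' : 2 ^ (a + 1) * ((2 ^ a + 1) * e) = q * (q ^ 2 - 1) := by rw [← hG]; ring
  have h0 : 0 < 2 ^ a - 1 := by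
    have : 2 ^ 1 ≤ 2 ^ a := Nat.pow_le_pow_right (by norm_num) ha
    omega
  have hele := Nat.le_of_dvd h0 he
  rcases hq with rfl | ⟨n, rfl⟩ | ⟨-, k, hk | hk⟩
  · obtain ⟨h1, h2⟩ := two_part_eq hA (show Odd 45 by decide)
      (hG'.trans (show 9 * (9 ^ 2 - 1) = 2 ^ 4 * 45 by norm_num))
    obtain rfl : a = 3 := by omega
    norm_num at h2 he hele
    obtain rfl : e = 5 := by omega
    norm_num at he
  · rcases Nat.eq_zero_or_pos n with rfl | hn
    · simp at h5
    · exact absurd ((Nat.even_pow.2 ⟨even_two, by omega⟩)) (Nat.not_even_iff_odd.2 hodd)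
  · subst hk
    obtain ⟨j, rfl⟩ : ∃ j, k = j + 1 := ⟨k - 1, by
      rcases Nat.eq_zero_or_pos k with rfl | hk0
      · simp at h5
      · omega⟩
    have hj : 1 ≤ j := by
      by_contra hlt
      obtain rfl : j = 0 := by omega
      simp at h5
    set J := 2 ^ j with hJ
    have hJ2 : 2 ≤ J := le_trans (by norm_num) (Nat.pow_le_pow_right (show 1 ≤ 2 by norm_num) hj)
    have hJe : Even J := Nat.even_pow.2 ⟨even_two, by omega⟩
    have e1 : (2 ^ (j + 1) + 1) * ((2 ^ (j + 1) + 1) ^ 2 - 1) = 2 ^ (j + 2) * ((2 * J + 1) * (J + 1)) := by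
      rw [show 2 ^ (j + 1) + 1 = 2 * J + 1 by rw [pow_succ, ← hJ]; ring,
        show (2 * J + 1) ^ 2 = 4 * J * (J + 1) + 1 by ring, Nat.add_sub_cancel, pow_add, ← hJ]
      ring
    obtain ⟨h1, h2⟩ := two_part_eq hA
      (Odd.mul (by simp [Nat.odd_iff]) (Nat.odd_iff.2 (by obtain ⟨r, hr⟩ := hJe; omega))) (hG'.trans e1)
    obtain rfl : a = j + 1 := by omega
    rw [pow_succ 2 j, ← hJ, mul_comm J 2] at h2 he hele
    have he' : e = J + 1 := Nat.eq_of_mul_eq_mul_left (by omega) h2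
    subst he'
    obtain ⟨c, hc⟩ := he
    have hc1 : c = 1 := by
      rcases c with _ | _ | c
      · omega
      · rfl
      · nlinarith [hc, Nat.sub_le (2 * J) 1]
    subst hc1
    have hJ' : J = 2 := by omega
    rw [pow_succ 2 j, ← hJ, hJ']
    all_goals norm_num
  · exfalso
    obtain ⟨j, rfl⟩ : ∃ j, k = j + 1 := ⟨k - 1, by
      rcases Nat.eq_zero_or_pos k with rfl | hk0
      · omega
      · omega⟩
    set J := 2 ^ j with hJ
    have hq' : q = 2 * J - 1 := by rw [pow_succ, ← hJ] at hk; omega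
    have hj : 2 ≤ j := by
      by_contra hlt
      have : J ≤ 2 := le_trans (Nat.pow_le_pow_right (show 1 ≤ 2 by norm_num) (show j ≤ 1 by omega)) (by norm_num)
      omega
    have hJ4 : 4 ≤ J := le_trans (by norm_num) (Nat.pow_le_pow_right (show 1 ≤ 2 by norm_num) hj)
    have hJe : Even J := Nat.even_pow.2 ⟨even_two, by omega⟩
    have e1 : q * (q ^ 2 - 1) = 2 ^ (j + 2) * (q * (J - 1)) := by
      obtain ⟨i, hi⟩ : ∃ i, J = i + 1 := ⟨J - 1, by omega⟩
      have hq2 : q = 2 * i + 1 := by omega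
      have : q ^ 2 = 4 * i * (i + 1) + 1 := by rw [hq2]; ring
      rw [this, Nat.add_sub_cancel, pow_add, ← hJ, hi, Nat.add_sub_cancel]
      ring
    obtain ⟨h1, h2⟩ := two_part_eq hA
      (Odd.mul hodd (Nat.odd_iff.2 (by obtain ⟨r, hr⟩ := hJe; omega))) (hG'.trans e1)
    obtain rfl : a = j + 1 := by omega
    rw [pow_succ 2 j, ← hJ] at h2 he hele
    have hdvd : J * 2 + 1 ∣ q * (J - 1) := ⟨e, h2.symm⟩
    have hcop : (J * 2 + 1).Coprime q := by
      refine Nat.coprime_of_dvd fun p hp hp1 hp2 => ?_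
      have h2' : p ∣ J * 2 + 1 - q := Nat.dvd_sub hp1 hp2
      rw [show J * 2 + 1 - q = 2 by omega] at h2'
      obtain rfl := (Nat.prime_dvd_prime_iff_eq hp Nat.prime_two).1 h2'
      omega
    have := Nat.le_of_dvd (by omega) (hcop.dvd_of_dvd_mul_left hdvd)
    omega

namespace Frame

variable {M H : Subgroup G} (L : Frame M H)
include L

theorem classify (hns : ¬ Group.IsSolvable G) (hev : 2 ∣ Nat.card ↥H) :
    (∃ (K : Type) (_ : Field K) (_ : Fintype K), (∃ n : ℕ, 2 ≤ n ∧ Fintype.card K = 2 ^ n) ∧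
        Nonempty (G ≃* Matrix.SpecialLinearGroup (Fin 2) K)) ∨ Cfsg.Lie.IsoSuzuki G := by
  classical
  haveI : Fact (Nat.Prime 2) := ⟨Nat.prime_two⟩
  haveI := L.simple hns hev
  have hna : ¬ IsMulCommutative G := fun hc => hns (Group.isSolvable_of_comm fun a b => hc.is_comm.comm a b)
  obtain ⟨a₀, ha₀, ha₀H⟩ := L.lt hns hev
  haveI hnil := L.nilpotent ha₀ ha₀H
  have hpp : IsPrimePow (Nat.card ↥H) := by
    by_contra hnot
    exact CNFrame.absurd_frame
      ({ nil := hnil, notpp := hnot, proper := L.proper hns, le := L.le, norm := L.norm, ti := L.ti,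
         cent := L.cent, hall := L.hall, even := hev } : CNFrame M H) hna
  obtain ⟨p, a, hp, ha, hpa⟩ := (isPrimePow_nat_iff _).1 hpp
  obtain rfl : 2 = p := (Nat.prime_dvd_prime_iff_eq Nat.prime_two hp).1 (Nat.prime_two.dvd_of_dvd_pow (hpa.symm ▸ hev))
  have hH2 : IsPGroup 2 ↥H := IsPGroup.of_card hpa.symm
  obtain ⟨z, hzH, hz, hzc⟩ := Cfsg.Lib.PrimePowerOrders.exists_central hH2 L.ne
  have hz1 : z ≠ 1 := fun e => by rw [e, orderOf_one] at hz; omega
  have hone : ∀ v w : G, orderOf v = 2 → orderOf w = 2 → IsConj v w := fun v w hv hw =>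
    Cfsg.Lib.StrongEmb.all_conj (L.strong hns hev) hv hw
  have hCIT : CIT G := by
    intro t ht
    obtain ⟨c, hc⟩ := isConj_iff.1 (hone t z ht hz)
    rw [IsPGroup.iff_orderOf]
    rintro ⟨g, hg⟩
    rw [orderOf_mk]
    have hgt : g * t = t * g := mem_centralizer_singleton_iff.1 hg
    have h1 : c * g * c⁻¹ ∈ H := L.cent z hzH hz1 (mem_centralizer_singleton_iff.2 (by
      rw [← hc, show c * g * c⁻¹ * (c * t * c⁻¹) = c * (g * t) * c⁻¹ by group, hgt]
      group))
    obtain ⟨k, hk⟩ := IsPGroup.iff_orderOf.1 hH2 ⟨_, h1⟩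
    rw [orderOf_mk, ← MulAut.conj_apply, MulEquiv.orderOf_eq] at hk
    exact ⟨k, hk⟩
  have hC : Closed M H :=
    { two := hH2
      ne := L.ne
      le := L.le
      norm := L.norm
      proper := L.proper hns
      self := fun g hg => by
        have hz' : orderOf (g * z * g⁻¹) = 2 := by rw [← MulAut.conj_apply, MulEquiv.orderOf_eq, hz]
        exact L.ti g z hzH hz1 (L.inv_mem_H hev hz' (hg z (L.le hzH)))
      ne_self := fun e => ha₀H (e ▸ ha₀)
      odd := fun hd => by
        have h1 := hd.trans (relIndex_dvd_index_of_le L.le)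
        exact absurd (Nat.eq_one_of_dvd_coprimes L.hall hev h1) (by norm_num)
      inv := fun v hv hvM => by
        have hvH := L.inv_mem_H hev hv hvM
        refine ⟨hvH, fun s hs => ?_⟩
        obtain ⟨c, hc⟩ := isConj_iff.1 (hone z v hz hv)
        have hcM : c ∈ M := L.ti c z hzH hz1 (hc.symm ▸ hvH)
        have h1 : c⁻¹ * s * c ∈ H := by simpa using L.norm c⁻¹ (inv_mem hcM) s hs
        have h2 := hzc _ h1
        rw [← hc]
        calc c * z * c⁻¹ * s = c * (z * (c⁻¹ * s * c)) * c⁻¹ := by group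
          _ = c * ((c⁻¹ * s * c) * z) * c⁻¹ := by rw [h2]
          _ = s * (c * z * c⁻¹) := by group
      cent := fun v g hv hvM hgv => L.le (L.cent v (L.inv_mem_H hev hv hvM)
        (fun e => by rw [e, orderOf_one] at hv; omega) (mem_centralizer_singleton_iff.2 hgv.eq))
      se := fun g hg v hv hvM hgv => by
        have hv' : orderOf (g⁻¹ * v * g) = 2 := by
          rw [show g⁻¹ * v * g = MulAut.conj g⁻¹ v by simp, MulEquiv.orderOf_eq, hv]
        refine hg (inv_mem_iff.1 (L.ti g⁻¹ v (L.inv_mem_H hev hv hvM) (fun e => by rw [e, orderOf_one] at hv; omega) ?_))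
        rw [inv_inv]
        exact L.inv_mem_H hev hv' hgv
      one_class := hone }
  have hZ := hC.zassenhaus hCIT
  rcases Cfsg.Lib.SuzukiUnique.zassenhaus_iso hZ with ⟨F, i1, i2, ⟨e⟩⟩ | hsz
  swap
  · exact Or.inr hsz
  left
  -- the order of the group
  haveI : Fintype (G ⧸ M) := Fintype.ofFinite _
  obtain ⟨g₀, -, hg₀⟩ : ∃ g : G, g ∈ (⊤ : Subgroup G) ∧ g ∉ M :=
    SetLike.exists_of_lt (lt_top_iff_ne_top.2 (L.proper hns))
  obtain ⟨w, hw, -, hwM, hcard, -⟩ := hC.exists_inverter hCIT g₀ hg₀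
  set d := (H.subgroupOf M).index with hd
  have hd1 : d ∣ Nat.card ↥H - 1 := by
    rw [← hcard]
    refine Cfsg.Lib.Frobenius.Fpf.card_dvd (fun y hy => mem_normalizer_iff.2 fun v =>
      ⟨L.norm y (mem_meet.1 hy).1 v, fun hv => by
        simpa [mul_assoc] using L.norm y⁻¹ (inv_mem (mem_meet.1 hy).1) _ hv⟩) fun y hy hy1 => ?_
    rw [eq_bot_iff_forall]
    rintro v ⟨hv, hvy⟩
    refine L.semi y (mem_meet.1 hy).1 (fun hyH => hy1 ?_) v hv (mem_centralizer_singleton_iff.1 hvy)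
    obtain ⟨k, hk⟩ := IsPGroup.iff_orderOf.1 hH2 ⟨y, hyH⟩
    rw [orderOf_mk] at hk
    rcases k with _ | k
    · exact orderOf_eq_one_iff.1 hk
    · exact absurd ((hk ▸ dvd_pow_self 2 (Nat.succ_ne_zero k)).trans (Subgroup.orderOf_dvd_natCard _ hy))
        (hC.meet_odd hCIT hwM)
  have hab : (QuotientGroup.mk 1 : G ⧸ M) ≠ QuotientGroup.mk w := fun h => hwM (by
    simpa using QuotientGroup.eq.1 h)
  have hstab₂ : Nat.card ↥(Cfsg.Lib.OddChar.Zassenhaus.stab₂ G (QuotientGroup.mk 1 : G ⧸ M) (QuotientGroup.mk w)) = d := by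
    rw [← hcard]
    refine Nat.card_congr (Equiv.subtypeEquivRight fun g => ?_)
    rw [mem_meet]
    constructor
    · rintro ⟨h1, h2⟩
      refine ⟨?_, ?_⟩
      · have h1' := QuotientGroup.eq.1 (show (QuotientGroup.mk (g * 1) : G ⧸ M) = QuotientGroup.mk 1 from h1)
        simpa using h1'
      · have h2' := inv_mem (QuotientGroup.eq.1 (show (QuotientGroup.mk (g * w) : G ⧸ M) = QuotientGroup.mk w from h2))
        simpa [mul_assoc] using h2'
    · rintro ⟨h1, h2⟩
      refine ⟨?_, ?_⟩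
      · show (QuotientGroup.mk (g * 1) : G ⧸ M) = QuotientGroup.mk 1
        refine QuotientGroup.eq.2 ?_
        simpa using h1
      · show (QuotientGroup.mk (g * w) : G ⧸ M) = QuotientGroup.mk w
        refine QuotientGroup.eq.2 ?_
        simpa [mul_assoc] using inv_mem h2
  have h2le : 1 ≤ Fintype.card (G ⧸ M) := Fintype.card_pos
  obtain ⟨h', hh'⟩ : ∃ h', Fintype.card (G ⧸ M) = h' + 1 := ⟨_, (Nat.sub_add_cancel h2le).symm⟩
  have hcG := Cfsg.Lib.OddChar.Zassenhaus.card_group hZ hab hh' hstab₂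
  have hcM : Nat.card ↥M = Nat.card ↥H * d := by
    rw [hd, ← (H.subgroupOf M).card_mul_index, Nat.card_congr (subgroupOfEquivOfLe L.le).toEquiv]
  have hh'H : h' = Nat.card ↥H := by
    have h1 : Nat.card G = (h' + 1) * (Nat.card ↥H * d) := by
      rw [← hcM, ← hh', ← Nat.card_eq_fintype_card, mul_comm]
      exact M.card_mul_index.symm
    exact Nat.eq_of_mul_eq_mul_right hC.index_pos (Nat.eq_of_mul_eq_mul_left (Nat.succ_pos h') (hcG.symm.trans h1))
  rw [hh'H, ← hpa] at hcG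
  rw [← hpa] at hd1
  -- the field
  have hq := Fintype.one_lt_card (α := F)
  have hcard : Nat.gcd 2 (Fintype.card F - 1) * Nat.card G = Fintype.card F * (Fintype.card F ^ 2 - 1) := by
    rw [Nat.card_congr e.toEquiv]
    exact Cfsg.Lib.Classical.SmallPSL.card_psl rfl
  have h23 : Fintype.card F ≠ 2 ∧ Fintype.card F ≠ 3 := by
    refine ⟨fun h => ?_, fun h => ?_⟩ <;> rw [h] at hcard <;> norm_num at hcard
    · exact hns (Cfsg.Lib.Chars.burnside_isSolvable 2 3 Nat.prime_two Nat.prime_three _ ⟨1, 1, by norm_num; omega⟩)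
    · exact hns (Cfsg.Lib.Chars.burnside_isSolvable 2 3 Nat.prime_two Nat.prime_three _ ⟨2, 1, by norm_num; omega⟩)
  obtain ⟨n2, n3⟩ := h23
  have fin : ∀ (K : Type) [Field K] [Fintype K] [CharP K 2] (n : ℕ), 2 ≤ n → Fintype.card K = 2 ^ n →
      (G ≃* Matrix.ProjectiveSpecialLinearGroup (Fin 2) K) →
      ∃ (K : Type) (_ : Field K) (_ : Fintype K), (∃ n : ℕ, 2 ≤ n ∧ Fintype.card K = 2 ^ n) ∧
        Nonempty (G ≃* Matrix.SpecialLinearGroup (Fin 2) K) := by
    intro K _ _ _ n hn hK f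
    refine ⟨K, inferInstance, inferInstance, ⟨n, hn, hK⟩, ⟨f.trans ?_⟩⟩
    have hbot : Subgroup.center (Matrix.SpecialLinearGroup (Fin 2) K) = ⊥ := by
      rw [Subgroup.eq_bot_iff_forall]
      intro A hA
      obtain ⟨r, hr, hA'⟩ := Matrix.SpecialLinearGroup.mem_center_iff.1 hA
      rw [Fintype.card_fin] at hr
      have hr1 : r = 1 := by
        have h4 : (r - 1) * (r - 1) = 0 := by
          have h5 : (2 : K) = 0 := CharTwo.two_eq_zero
          linear_combination hr - (r - 1) * h5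
        exact sub_eq_zero.1 (mul_self_eq_zero.1 h4)
      ext i k
      rw [← hA', hr1]
      simp [Matrix.scalar_apply]
    exact (QuotientGroup.quotientMulEquivOfEq hbot).trans QuotientGroup.quotientBot
  obtain ⟨q, -, f, hqp, hqf⟩ := FiniteField.card' F
  by_cases hq2 : q = 2
  · subst hq2
    haveI : CharP F 2 := charP_of_card_eq_prime_pow hqf
    refine fin F f ?_ hqf e
    by_contra hlt
    have h1 : (f : ℕ) = 1 := by have := f.pos; omega
    rw [h1] at hqf
    exact n2 hqf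
  have hoddF : Odd (Fintype.card F) := by rw [hqf]; exact (hqp.odd_of_ne_two hq2).pow
  have hg2 : Nat.gcd 2 (Fintype.card F - 1) = 2 := Nat.gcd_eq_left (by obtain ⟨r, hr⟩ := hoddF; omega)
  have hcitF : CIT (Matrix.ProjectiveSpecialLinearGroup (Fin 2) F) := by
    intro t ht
    rw [IsPGroup.iff_orderOf]
    rintro ⟨g, hg⟩
    rw [orderOf_mk, ← e.symm.orderOf_eq g]
    refine hCIT.two_of_comm (s := e.symm t) ⟨1, by rw [e.symm.orderOf_eq, ht, pow_one]⟩ (fun e1 => ?_) ?_
    · rw [← e.symm.orderOf_eq, e1, orderOf_one] at ht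
      omega
    · have hc : Commute g t := mem_centralizer_singleton_iff.1 hg
      exact hc.map e.symm.toMonoidHom
  have h5 : Fintype.card F = 5 := five_of_order hoddF (psl_card hcitF)
    (by obtain ⟨r, hr⟩ := hoddF; omega) ha hd1 (by
      rw [hg2] at hcard
      rw [← hcard, hcG])
  haveI : Fintype (GaloisField 2 2) := Fintype.ofFinite _
  have h4 : Fintype.card (GaloisField 2 2) = 2 ^ 2 := by
    rw [← Nat.card_eq_fintype_card]
    exact GaloisField.card 2 2 two_ne_zero
  obtain ⟨e5⟩ := Cfsg.Lib.Classical.SmallPSL.psl_five h5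
  obtain ⟨e4⟩ := Cfsg.Agent.S0252.result (F := GaloisField 2 2) h4
  exact fin _ 2 le_rfl h4 ((e.trans e5).trans e4.symm)

end Frame

end Cfsg.Lib.FrobeniusSystem
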