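import Mathlib
import Cfsg.Agent.Frobenius.Kernel
import Cfsg.Agent.Frobenius.FpfGroups
import Cfsg.Agent.Thompson.FixedPointFree
import Cfsg.Agent.InvolCalc.StronglyEmbedded
import Cfsg.Agent.OddChar.PF.OddOrder
import Cfsg.Agent.S0215

/-!
A family of normal subgroups of the maximal solvable subgroups, each acted on semiregularly from outside and
with trivial intersections: in a group which is not solvable the member over a Sylow two-normaliser is a
nilpotent Hall subgroup of even order containing all centralisers of its non-identity elements, its normaliser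
is strongly embedded, and the group is simple.
-/

set_option autoImplicit false
set_option linter.unusedSectionVars false
set_option linter.style.haveILetI false

namespace Cfsg.Lib.FrobeniusSystem

open Subgroup
open scoped Pointwise

universe u

variable {G : Type u} [Group G] [Finite G]

/-- maximal among the solvable subgroups -/
def MaxSolv (M : Subgroup G) : Prop :=
  Group.IsSolvable M ∧ ∀ M' : Subgroup G, M < M' → ¬ Group.IsSolvable M'

theorem exists_maxSolv {K : Subgroup G} (hK : Group.IsSolvable K) : ∃ M, K ≤ M ∧ MaxSolv M := by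
  obtain ⟨M, hKM, hmax⟩ := Finite.exists_le_maximal (p := fun L : Subgroup G => Group.IsSolvable ↥L) hK
  exact ⟨M, hKM, hmax.1, fun M' hlt hM' => hlt.not_ge (hmax.2 hM' hlt.le)⟩

theorem solvable_of_odd {K : Subgroup G} (h : ¬ 2 ∣ Nat.card ↥K) : Group.IsSolvable ↥K :=
  Cfsg.Agent.PF.isSolvable_of_odd ↥K (Nat.not_even_iff_odd.1 fun he => h he.two_dvd)

/-- `M` with the subgroup `H` prescribed to it -/
structure Frame (M H : Subgroup G) : Prop where
  max : MaxSolv M
  ne : H ≠ ⊥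
  le : H ≤ M
  norm : ∀ m ∈ M, ∀ v ∈ H, m * v * m⁻¹ ∈ H
  semi : ∀ a ∈ M, a ∉ H → ∀ x ∈ H, Commute x a → x = 1
  ti : ∀ g x : G, x ∈ H → x ≠ 1 → g * x * g⁻¹ ∈ H → g ∈ M

namespace Frame

variable {M H : Subgroup G} (L : Frame M H)
include L

theorem cent : ∀ x ∈ H, x ≠ 1 → centralizer ({x} : Set G) ≤ H := by
  intro x hx hx1 c hc
  have hcc : Commute c x := mem_centralizer_singleton_iff.1 hc
  have hcM : c ∈ M := L.ti c x hx hx1 (by rwa [hcc.eq, mul_inv_cancel_right])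
  by_contra hcH
  exact hx1 (L.semi c hcM hcH x hx hcc.symm)

theorem coprime_out {a : G} (ha : a ∈ M) (haH : a ∉ H) : (orderOf a).Coprime (Nat.card ↥H) := by
  rw [← Nat.card_zpowers]
  refine Cfsg.Lib.Frobenius.Fpf.coprime ?_ ?_
  · refine zpowers_le.2 (mem_normalizer_iff.2 fun v => ⟨L.norm a ha v, fun hv => ?_⟩)
    simpa [mul_assoc] using L.norm a⁻¹ (inv_mem ha) _ hv
  · intro b hb hb1
    rw [eq_bot_iff_forall]
    rintro v ⟨hv, hvb⟩
    by_contra hv1
    obtain ⟨k, rfl⟩ := mem_zpowers_iff.1 hb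
    have hbH : a ^ k ∈ H := L.cent v hv hv1 (mem_centralizer_singleton_iff.2
      (mem_centralizer_singleton_iff.1 hvb).symm)
    exact haH (L.cent _ hbH hb1 (mem_centralizer_singleton_iff.2 ((Commute.refl a).zpow_right k).eq))

theorem mem_of_dvd {a : G} (ha : a ∈ M) {p : ℕ} (hp : p.Prime) (hd : p ∣ orderOf a)
    (hpH : p ∣ Nat.card ↥H) : a ∈ H := by
  by_contra haH
  exact hp.ne_one (Nat.eq_one_of_dvd_coprimes (L.coprime_out ha haH) hd hpH)

theorem proper (hns : ¬ Group.IsSolvable G) : M ≠ ⊤ := fun e => hns (by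
  haveI : Group.IsSolvable ↥(⊤ : Subgroup G) := e ▸ L.max.1
  exact Group.isSolvable_of_surjective (f := (⊤ : Subgroup G).subtype) fun g => ⟨⟨g, mem_top g⟩, rfl⟩)

/-- no solvable normal subgroup -/
theorem radical (hns : ¬ Group.IsSolvable G) {R : Subgroup G} [R.Normal] (hR : Group.IsSolvable ↥R) : R = ⊥ := by
  have hRM : R ≤ M := by
    set π := QuotientGroup.mk' R
    set L' := (M.map π).comap π
    have hML : M ≤ L' := le_comap_map π M
    have hRL : R ≤ L' := (QuotientGroup.ker_mk' R).ge.trans (ker_le_comap π _)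
    haveI := hR
    haveI := L.max.1
    haveI : Group.IsSolvable ↥(M.map π) := Group.isSolvable_of_surjective (π.subgroupMap_surjective M)
    have hL : Group.IsSolvable ↥L' := Group.isSolvable_of_ker_le_range (inclusion hRL)
      ((π.comp L'.subtype).codRestrict (M.map π) fun x => x.2) fun x hx => by
        refine ⟨⟨x, ?_⟩, Subtype.ext rfl⟩
        exact (QuotientGroup.eq_one_iff (x : G)).1 (congrArg Subtype.val (MonoidHom.mem_ker.1 hx))
    rcases eq_or_lt_of_le hML with e | hlt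
    · exact hRL.trans e.ge
    · exact absurd hL (L.max.2 _ hlt)
  by_contra hR1
  obtain ⟨y, hy, hy1⟩ : ∃ y ∈ R ⊓ H, y ≠ 1 := by
    by_contra hno
    push Not at hno
    obtain ⟨⟨x, hx⟩, hx'⟩ := ne_bot_iff_exists_ne_one.1 L.ne
    have hx1 : x ≠ 1 := fun e => hx' (Subtype.ext e)
    refine hR1 ((eq_bot_iff_forall R).2 fun r hr => hno r ⟨hr, ?_⟩)
    refine L.cent x hx hx1 (mem_centralizer_singleton_iff.2 ?_)
    have h1 : r * x * r⁻¹ * (x : G)⁻¹ = 1 := hno _ ⟨by
      rw [mul_assoc, mul_assoc, ← mul_assoc (x : G)]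
      exact R.mul_mem hr ((inferInstance : R.Normal).conj_mem _ (inv_mem hr) _),
      H.mul_mem (L.norm r (hRM hr) _ hx) (inv_mem hx)⟩
    exact mul_inv_eq_iff_eq_mul.1 (mul_inv_eq_one.1 h1)
  refine L.proper hns ((eq_top_iff' M).2 fun g => L.ti g y hy.2 hy1 ?_)
  have hgy : g * y * g⁻¹ ∈ R := (inferInstance : R.Normal).conj_mem y hy.1 g
  obtain ⟨p, hp, hpd⟩ := Nat.exists_prime_and_dvd (fun h => hy1 (orderOf_eq_one_iff.1 h))
  refine L.mem_of_dvd (hRM hgy) hp ?_ (hpd.trans (Subgroup.orderOf_dvd_natCard H hy.2))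
  rwa [← MulAut.conj_apply, MulEquiv.orderOf_eq]

/-- an involution outside the subgroup inverts it -/
theorem inverts {t : G} (ht : orderOf t = 2) (htM : t ∈ M) (htH : t ∉ H) {y : G} (hy : y ∈ H) :
    t * y * t⁻¹ = y⁻¹ := by
  have htt : t * t = 1 := by rw [← pow_two, ← ht, pow_orderOf_eq_one]
  let f : ↥H → ↥H := fun x => ⟨(x : G)⁻¹ * (t * x * t⁻¹), H.mul_mem (inv_mem x.2) (L.norm t htM x x.2)⟩
  have hf : Function.Injective f := fun x x' e => by
    have e' : (x : G)⁻¹ * (t * x * t⁻¹) = (x' : G)⁻¹ * (t * x' * t⁻¹) := congrArg Subtype.val e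
    have h1 : Commute ((x' : G) * (x : G)⁻¹) t := by
      show (x' : G) * (x : G)⁻¹ * t = t * ((x' : G) * (x : G)⁻¹)
      calc (x' : G) * (x : G)⁻¹ * t = x' * ((x : G)⁻¹ * (t * x * t⁻¹)) * t * (x : G)⁻¹ := by group
        _ = x' * ((x' : G)⁻¹ * (t * x' * t⁻¹)) * t * (x : G)⁻¹ := by rw [e']
        _ = t * ((x' : G) * (x : G)⁻¹) := by group
    exact Subtype.ext (mul_inv_eq_one.1 (L.semi t htM htH _ (H.mul_mem x'.2 (inv_mem x.2)) h1)).symm
  obtain ⟨x, hx⟩ := Finite.surjective_of_injective hf ⟨y, hy⟩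
  have e : (x : G)⁻¹ * (t * x * t⁻¹) = y := congrArg Subtype.val hx
  rw [← e]
  calc t * ((x : G)⁻¹ * (t * x * t⁻¹)) * t⁻¹ = t * (x : G)⁻¹ * t * x * (t * t)⁻¹ := by group
    _ = t * (x : G)⁻¹ * t * x := by rw [htt, inv_one, mul_one]
    _ = ((x : G)⁻¹ * (t * x * t⁻¹))⁻¹ := by
      rw [show ((x : G)⁻¹ * (t * x * t⁻¹))⁻¹ = t * (x : G)⁻¹ * t⁻¹ * x by group, inv_eq_of_mul_eq_one_right htt]

theorem even (hns : ¬ Group.IsSolvable G) (S : Sylow 2 G) (hS : (S : Subgroup G) ≤ M) :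
    2 ∣ Nat.card ↥H := by
  haveI : Fact (Nat.Prime 2) := ⟨Nat.prime_two⟩
  by_contra hodd
  have h2G : 2 ∣ Nat.card G := by
    by_contra h
    exact hns (Cfsg.Agent.PF.isSolvable_of_odd G (Nat.not_even_iff_odd.1 fun he => h he.two_dvd))
  obtain ⟨⟨t, htS⟩, ht⟩ := exists_prime_orderOf_dvd_card' (G := ↥(S : Subgroup G)) 2 (S.dvd_card_of_dvd_card h2G)
  rw [orderOf_mk] at ht
  have hout : ∀ s : G, orderOf s = 2 → s ∉ H := fun s hs h =>
    hodd (hs ▸ Subgroup.orderOf_dvd_natCard H h)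
  obtain ⟨N, hN, hNodd, hcomm⟩ := Cfsg.Agent.S0215.result S t ht htS fun g hg => by
    have hs2 : orderOf (g * t * g⁻¹) = 2 := by rw [← MulAut.conj_apply, MulEquiv.orderOf_eq, ht]
    set s := g * t * g⁻¹
    by_contra hne
    have hst : s * t ≠ 1 := fun e => hne (by
      rw [eq_inv_of_mul_eq_one_left e, inv_eq_of_mul_eq_one_right]
      rw [← pow_two, ← ht, pow_orderOf_eq_one])
    have hstH : s * t ∉ H := fun h => by
      obtain ⟨k, hk⟩ := S.isPGroup' ⟨s * t, S.mul_mem hg htS⟩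
      have h1 : orderOf (s * t) ∣ 2 ^ k := orderOf_dvd_of_pow_eq_one (congrArg Subtype.val hk :)
      exact hst (orderOf_eq_one_iff.1 (Nat.eq_one_of_dvd_coprimes
        (((Nat.prime_two.coprime_iff_not_dvd).2 hodd).pow_left k) h1 (Subgroup.orderOf_dvd_natCard H h)))
    obtain ⟨x, hx⟩ := ne_bot_iff_exists_ne_one.1 L.ne
    refine hx (Subtype.ext (L.semi _ (M.mul_mem (hS hg) (hS htS)) hstH x x.2 ?_))
    have h1 := L.inverts hs2 (hS hg) (hout _ hs2) x.2
    have h2 := L.inverts ht (hS htS) (hout _ ht) (inv_mem x.2)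
    rw [inv_inv] at h2
    show (x : G) * (s * t) = s * t * x
    have h3 : s * t * x * (s * t)⁻¹ = (x : G) := by
      rw [show s * t * (x : G) * (s * t)⁻¹ = s * (t * (x : G)⁻¹ * t⁻¹)⁻¹ * s⁻¹ by group, h2,
        show s * (x : G)⁻¹ * s⁻¹ = (s * x * s⁻¹)⁻¹ by group, h1, inv_inv]
    exact (mul_inv_eq_iff_eq_mul.1 h3).symm
  haveI := hN
  have hN1 : N = ⊥ := L.radical hns (solvable_of_odd fun h => (Nat.not_even_iff_odd.2 hNodd) (even_iff_two_dvd.2 h))
  have htc : t ∈ center G := mem_center_iff.2 fun g => by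
    have h1 := mem_bot.1 (hN1 ▸ hcomm g)
    rw [mul_inv_eq_one, mul_inv_eq_iff_eq_mul] at h1
    exact h1.symm
  have h1 : center G = ⊥ := L.radical hns (Group.isSolvable_of_comm fun a b =>
    Subtype.ext (mem_center_iff.1 b.2 a))
  rw [h1, mem_bot] at htc
  rw [htc, orderOf_one] at ht
  omega

/-- the subgroup is proper in its normaliser -/
theorem lt (hns : ¬ Group.IsSolvable G) (hev : 2 ∣ Nat.card ↥H) : ∃ a ∈ M, a ∉ H := by
  by_contra hno
  push Not at hno
  obtain rfl : H = M := le_antisymm L.le hno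
  haveI : Fact (Nat.Prime 2) := ⟨Nat.prime_two⟩
  have hF : Cfsg.IsFrobeniusComplement H := ⟨L.ne, L.proper hns, fun g hg => by
    rw [eq_bot_iff]
    rintro x ⟨hx, hxg⟩
    rw [mem_bot]
    by_contra hx1
    obtain ⟨y, hy, hyx⟩ := hxg
    have hyx' : g * y * g⁻¹ = x := hyx
    refine hg (L.ti g y hy (fun e => hx1 ?_) (hyx' ▸ hx))
    rw [← hyx', e, mul_one, mul_inv_cancel]⟩
  obtain ⟨N, hNk, hN, hc⟩ := Cfsg.Lib.Frobenius.exists_kernel hF
  obtain ⟨⟨t, htH⟩, ht⟩ := exists_prime_orderOf_dvd_card' (G := ↥H) 2 hev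
  rw [orderOf_mk] at ht
  obtain ⟨hinv, -, -⟩ := Cfsg.Lib.Frobenius.involution_inverts hF (a := 1) (t := t)
    (by rwa [Cfsg.Lib.Coprime.conjMap_one]) (fun e => by rw [e, orderOf_one] at ht; omega)
    (by rw [← pow_two, ← ht, pow_orderOf_eq_one])
  haveI := hN
  have hNs : Group.IsSolvable ↥N := Group.isSolvable_of_comm fun a b => Subtype.ext (by
    have mk : ∀ v : G, v ∈ N → v ∈ Cfsg.frobeniusKernel H := fun v hv => hNk.le hv
    have h1 := hinv _ (mk _ (N.mul_mem a.2 b.2))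
    rw [show t * ((a : G) * b) * t⁻¹ = (t * a * t⁻¹) * (t * b * t⁻¹) by group, hinv _ (mk _ a.2),
      hinv _ (mk _ b.2), ← mul_inv_rev, inv_inj] at h1
    exact h1.symm)
  haveI : Group.IsSolvable (G ⧸ N) := by
    haveI := L.max.1
    refine Group.isSolvable_of_surjective (f := (QuotientGroup.mk' N).comp H.subtype) fun q => ?_
    obtain ⟨g, rfl⟩ := QuotientGroup.mk'_surjective N q
    obtain ⟨⟨n, h⟩, hnh⟩ := hc.2 g
    refine ⟨h, ?_⟩
    rw [← hnh]
    show (QuotientGroup.mk' N) (h : G) = (QuotientGroup.mk' N) ((n : G) * (h : G))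
    rw [map_mul, show (QuotientGroup.mk' N) (n : G) = 1 from (QuotientGroup.eq_one_iff _).2 n.2, one_mul]
  exact hns (Group.isSolvable_iff_subgroup_quotient N |>.2 ⟨hNs, inferInstance⟩)

theorem nilpotent {a : G} (ha : a ∈ M) (haH : a ∉ H) : Group.IsNilpotent ↥H := by
  have ho : orderOf a ≠ 1 := fun e => haH (by rw [orderOf_eq_one_iff.1 e]; exact one_mem H)
  obtain ⟨p, hp, hpd⟩ := Nat.exists_prime_and_dvd ho
  obtain ⟨c, hc⟩ := hpd
  set b := a ^ c
  have hb : orderOf b = p := by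
    have hc0 : 0 < c := Nat.pos_of_ne_zero fun h => (orderOf_pos a).ne' (by rw [hc, h, mul_zero])
    rw [orderOf_pow_of_dvd hc0.ne' (hc ▸ dvd_mul_left c p), hc, Nat.mul_div_cancel _ hc0]
  have hbM : b ∈ M := M.pow_mem ha c
  have hbH : b ∉ H := fun h => haH (L.mem_of_dvd ha hp (hc ▸ dvd_mul_right p c)
    (hb ▸ Subgroup.orderOf_dvd_natCard H h))
  let φ : ↥H →* ↥H :=
    { toFun := fun x => ⟨b * x * b⁻¹, L.norm b hbM x x.2⟩
      map_one' := Subtype.ext (by simp)
      map_mul' := fun x y => Subtype.ext (by simp [mul_assoc]) }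
  have hiter : ∀ (n : ℕ) (x : ↥H), ((φ^[n] x : ↥H) : G) = b ^ n * x * (b ^ n)⁻¹ := by
    intro n
    induction n with
    | zero => intro x; simp
    | succ n ih =>
      intro x
      rw [Function.iterate_succ_apply']
      show b * ((φ^[n] x : ↥H) : G) * b⁻¹ = _
      rw [ih, pow_succ']
      group
  refine Cfsg.Lib.Thompson.isNilpotent_of_fpf φ ?_ hp (funext fun x => Subtype.ext ?_)
  · intro x hx
    refine Subtype.ext (L.semi b hbM hbH x x.2 ?_)
    exact (mul_inv_eq_iff_eq_mul.1 (congrArg Subtype.val hx)).symm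
  · rw [hiter, ← hb, pow_orderOf_eq_one]
    simp

theorem hall : (Nat.card ↥H).Coprime H.index := by
  refine Nat.coprime_of_dvd fun p hp h1 h2 => ?_
  haveI := Fact.mk hp
  obtain ⟨⟨y, hy⟩, hyo⟩ := exists_prime_orderOf_dvd_card' (G := ↥H) p h1
  rw [orderOf_mk] at hyo
  have hy1 : y ≠ 1 := fun e => hp.ne_one (by rw [← hyo, e, orderOf_one])
  have hpy : IsPGroup p ↥(zpowers y) := IsPGroup.of_card (n := 1) (by rw [Nat.card_zpowers, hyo, pow_one])
  obtain ⟨P, hP⟩ := hpy.exists_le_sylow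
  haveI : Nontrivial ↥(P : Subgroup G) :=
    (P : Subgroup G).nontrivial_iff_ne_bot.2 fun e => hy1 (mem_bot.1 (e ▸ hP (mem_zpowers y)))
  haveI := P.isPGroup'.center_nontrivial
  obtain ⟨z, hz⟩ := exists_ne (1 : ↥(center ↥(P : Subgroup G)))
  have hzc : ∀ v ∈ (P : Subgroup G), Commute v ((z : ↥(P : Subgroup G)) : G) := fun v hv =>
    congrArg Subtype.val (mem_center_iff.1 z.2 ⟨v, hv⟩)
  have hzH : ((z : ↥(P : Subgroup G)) : G) ∈ H :=
    L.cent y hy hy1 (mem_centralizer_singleton_iff.2 (hzc y (hP (mem_zpowers y))).symm.eq)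
  have hPH : (P : Subgroup G) ≤ H := fun v hv => L.cent _ hzH (fun e => hz (Subtype.ext (Subtype.ext e)))
    (mem_centralizer_singleton_iff.2 (hzc v hv).eq)
  exact P.not_dvd_index (h2.trans (index_dvd_of_le hPH))

theorem inv_mem_H {v : G} (hev : 2 ∣ Nat.card ↥H) (hv : orderOf v = 2) (hvM : v ∈ M) : v ∈ H :=
  L.mem_of_dvd hvM Nat.prime_two (hv ▸ dvd_rfl) hev

theorem strong (hns : ¬ Group.IsSolvable G) (hev : 2 ∣ Nat.card ↥H) : Cfsg.IsStronglyEmbedded M := by
  refine ⟨L.proper hns, even_iff_two_dvd.2 (hev.trans (card_dvd_of_le L.le)), fun g hg => ?_⟩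
  rw [← Nat.not_even_iff_odd]
  intro he
  obtain ⟨v, hv, hv2⟩ := Cfsg.Lib.StrongEmb.exists_involution_of_even he
  obtain ⟨hvM, w, hw, hwv⟩ := hv
  have hwv' : g * w * g⁻¹ = v := hwv
  have hw2 : orderOf w = 2 := by rwa [← hwv', ← MulAut.conj_apply, MulEquiv.orderOf_eq] at hv2
  exact hg (L.ti g w (L.inv_mem_H hev hw2 hw) (fun e => by rw [e, orderOf_one] at hw2; omega)
    (hwv' ▸ L.inv_mem_H hev hv2 hvM))

/-- the group is simple -/
theorem simple (hns : ¬ Group.IsSolvable G) (hev : 2 ∣ Nat.card ↥H) : IsSimpleGroup G := by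
  haveI : Nontrivial G := by
    by_contra h
    rw [not_nontrivial_iff_subsingleton] at h
    exact hns inferInstance
  refine ⟨fun N hN => ?_⟩
  by_cases hN1 : N = ⊥
  · exact Or.inl hN1
  right
  haveI := hN
  have hNs : ¬ Group.IsSolvable ↥N := fun h => hN1 (L.radical hns h)
  haveI : Fact (Nat.Prime 2) := ⟨Nat.prime_two⟩
  obtain ⟨⟨w, hwN⟩, hw⟩ := exists_prime_orderOf_dvd_card' (G := ↥N) 2 (by
    by_contra h
    exact hNs (solvable_of_odd h))
  rw [orderOf_mk] at hw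
  obtain ⟨⟨z, hzH⟩, hz⟩ := exists_prime_orderOf_dvd_card' (G := ↥H) 2 hev
  rw [orderOf_mk] at hz
  have hz1 : z ≠ 1 := fun e => by rw [e, orderOf_one] at hz; omega
  have hzN : z ∈ N := by
    obtain ⟨c, hc⟩ := isConj_iff.1 (Cfsg.Lib.StrongEmb.all_conj (L.strong hns hev) hw hz)
    exact hc ▸ hN.conj_mem w hwN c
  have hemb : Cfsg.IsStronglyEmbedded (M.subgroupOf N) := by
    refine ⟨fun e => hNs ?_, ?_, fun g hg => ?_⟩
    · haveI := L.max.1
      exact Group.isSolvable_of_isSolvable_injective (Subgroup.inclusion_injective (subgroupOf_eq_top.1 e))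
    · refine even_iff_two_dvd.2 ?_
      have h1 : orderOf (⟨⟨z, hzN⟩, L.le hzH⟩ : ↥(M.subgroupOf N)) = 2 := by
        rw [← orderOf_coe, ← orderOf_coe]
        exact hz
      exact h1 ▸ _root_.orderOf_dvd_natCard _
    · rw [← Nat.not_even_iff_odd]
      intro he
      obtain ⟨v, hv, hv2⟩ := Cfsg.Lib.StrongEmb.exists_involution_of_even he
      obtain ⟨hvM, w', hw', hwv⟩ := hv
      have hwv' : (g : G) * w' * (g : G)⁻¹ = (v : G) := congrArg Subtype.val hwv
      have hv2' : orderOf (v : G) = 2 := by rw [orderOf_coe, hv2]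
      have hw2 : orderOf (w' : G) = 2 := by rwa [← hwv', ← MulAut.conj_apply, MulEquiv.orderOf_eq] at hv2'
      exact hg (L.ti g w' (L.inv_mem_H hev hw2 hw') (fun e => by rw [e, orderOf_one] at hw2; omega)
        (hwv' ▸ L.inv_mem_H hev hv2' hvM))
  have hdec : ∀ g : G, ∃ k ∈ N, k⁻¹ * g ∈ H := fun g => by
    have hgz : orderOf (g * z * g⁻¹) = 2 := by rw [← MulAut.conj_apply, MulEquiv.orderOf_eq, hz]
    obtain ⟨k, hk⟩ := isConj_iff.1 (Cfsg.Lib.StrongEmb.all_conj hemb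
      (a := (⟨z, hzN⟩ : ↥N)) (b := ⟨g * z * g⁻¹, hN.conj_mem z hzN g⟩)
      (by rw [← orderOf_coe]; exact hz) (by rw [← orderOf_coe]; exact hgz))
    have hk' : (k : G) * z * (k : G)⁻¹ = g * z * g⁻¹ := congrArg Subtype.val hk
    refine ⟨k, k.2, L.cent z hzH hz1 (mem_centralizer_singleton_iff.2 ?_)⟩
    calc (k : G)⁻¹ * g * z = (k : G)⁻¹ * (g * z * g⁻¹) * g := by group
      _ = z * ((k : G)⁻¹ * g) := by rw [← hk']; group
  obtain ⟨a, haM, haH⟩ := L.lt hns hev
  obtain ⟨d, hdN, hdM, hdH⟩ : ∃ d, d ∈ N ∧ d ∈ M ∧ d ∉ H := by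
    obtain ⟨k, hkN, hkH⟩ := hdec a
    refine ⟨k, hkN, ?_, fun hk => haH ?_⟩
    · have : k = a * (k⁻¹ * a)⁻¹ := by group
      rw [this]
      exact M.mul_mem haM (inv_mem (L.le hkH))
    · have := H.mul_mem hk hkH
      rwa [mul_inv_cancel_left] at this
  have hHN : H ≤ N := by
    intro y hy
    let f : ↥H → ↥H := fun x => ⟨(x : G)⁻¹ * (d * x * d⁻¹), H.mul_mem (inv_mem x.2) (L.norm d hdM x x.2)⟩
    have hf : Function.Injective f := fun x x' e => by
      have e' : (x : G)⁻¹ * (d * x * d⁻¹) = (x' : G)⁻¹ * (d * x' * d⁻¹) := congrArg Subtype.val e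
      have h1 : Commute ((x' : G) * (x : G)⁻¹) d := by
        show (x' : G) * (x : G)⁻¹ * d = d * ((x' : G) * (x : G)⁻¹)
        calc (x' : G) * (x : G)⁻¹ * d = x' * ((x : G)⁻¹ * (d * x * d⁻¹)) * d * (x : G)⁻¹ := by group
          _ = x' * ((x' : G)⁻¹ * (d * x' * d⁻¹)) * d * (x : G)⁻¹ := by rw [e']
          _ = d * ((x' : G) * (x : G)⁻¹) := by group
      exact Subtype.ext (mul_inv_eq_one.1 (L.semi d hdM hdH _ (H.mul_mem x'.2 (inv_mem x.2)) h1)).symm
    obtain ⟨x, hx⟩ := Finite.surjective_of_injective hf ⟨y, hy⟩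
    have e : (x : G)⁻¹ * (d * x * d⁻¹) = y := congrArg Subtype.val hx
    rw [← e, show (x : G)⁻¹ * (d * x * d⁻¹) = (x : G)⁻¹ * d * (x : G)⁻¹⁻¹ * d⁻¹ by group]
    exact N.mul_mem (hN.conj_mem d hdN _) (inv_mem hdN)
  refine (eq_top_iff' N).2 fun g => ?_
  obtain ⟨k, hkN, hkH⟩ := hdec g
  have := N.mul_mem hkN (hHN hkH)
  rwa [mul_inv_cancel_left] at this

end Frame

variable (F : Subgroup G → Subgroup G)

/-- over a Sylow two-normaliser sits a frame -/
theorem exists_frame (h : ∀ M : Subgroup G, MaxSolv M →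
      F M ≤ M ∧ M ≤ normalizer (F M : Set G) ∧
      (∀ a ∈ M, a ∉ F M → ∀ x ∈ F M, x * a = a * x → x = 1) ∧
      (∀ g : G, g ∉ M → F M ⊓ (MulAut.conj g • F M) = ⊥) ∧
      (F M ≠ ⊥ ∨ IsMulCommutative M)) (hns : ¬ Group.IsSolvable G) :
    ∃ (S : Sylow 2 G) (M H : Subgroup G), Frame M H ∧ (S : Subgroup G) ≤ M := by
  haveI : Fact (Nat.Prime 2) := ⟨Nat.prime_two⟩
  obtain ⟨S⟩ : Nonempty (Sylow 2 G) := inferInstance
  set N := normalizer ((S : Subgroup G) : Set G)
  have hNs : Group.IsSolvable ↥N := by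
    set K := (S : Subgroup G).subgroupOf N
    haveI : K.Normal := normal_in_normalizer
    haveI : Group.IsNilpotent ↥K := (IsPGroup.comap_subtype S.2).isNilpotent
    refine (Group.isSolvable_iff_subgroup_quotient K).2 ⟨inferInstance, ?_⟩
    refine Cfsg.Agent.PF.isSolvable_of_odd _ (Nat.not_even_iff_odd.1 fun he => S.not_dvd_index ?_)
    rw [← relIndex_mul_index (le_normalizer (H := (S : Subgroup G)))]
    exact dvd_mul_of_dvd_left he.two_dvd _
  obtain ⟨M, hNM, hM⟩ := exists_maxSolv hNs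
  obtain ⟨h1, h2, h3, h4, h5⟩ := h M hM
  have hSM : (S : Subgroup G) ≤ M := le_normalizer.trans hNM
  refine ⟨S, M, F M, ⟨hM, ?_, h1, fun m hm v hv => (mem_normalizer_iff.1 (h2 hm) v).1 hv,
    fun a ha haH x hx hc => h3 a ha haH x hx hc.eq, fun g x hx hx1 hgx => ?_⟩, hSM⟩
  · rcases h5 with h5 | h5
    · exact h5
    exfalso
    have hle : N ≤ centralizer ((S : Subgroup G) : Set G) := fun g hg => mem_centralizer_iff.2 fun s hs =>
      congrArg Subtype.val (h5.is_comm.comm ⟨s, hSM hs⟩ ⟨g, hNM hg⟩)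
    have hc := MonoidHom.ker_transferSylow_isComplement' S hle
    set K := (MonoidHom.transferSylow S hle).ker
    have hK : Group.IsSolvable ↥K := solvable_of_odd fun hd => S.not_dvd_index (hc.index_eq_card.symm ▸ hd)
    haveI : Group.IsSolvable (G ⧸ K) := by
      haveI := S.isPGroup'.isNilpotent
      exact Group.isSolvable_of_isSolvable_injective (QuotientGroup.kerLift_injective (MonoidHom.transferSylow S hle))
    exact hns ((Group.isSolvable_iff_subgroup_quotient K).2 ⟨hK, inferInstance⟩)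
  · by_contra hg
    have := h4 g hg
    rw [eq_bot_iff_forall] at this
    exact hx1 (conj_eq_one_iff.1 (this _ ⟨hgx, Subgroup.smul_mem_pointwise_smul x (MulAut.conj g) _ hx⟩))

end Cfsg.Lib.FrobeniusSystem
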